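import Mathlib
import Cfsg.Agent.QE.Defs
import Cfsg.Agent.KFI.SpA
import Cfsg.Agent.KFI.SpDA
import Cfsg.Agent.Inv.M12C
import Cfsg.Agent.Ch.Burnside

/-! # S1848, piece QE-KM12: KB for M12 and J2 -/

set_option autoImplicit false
set_option linter.unusedVariables false
set_option synthInstance.maxSize 100000
set_option synthInstance.maxHeartbeats 1000000

namespace Cfsg.Agent.QE

open Cfsg Subgroup Cfsg.Agent.GT Cfsg.Agent.Inv Cfsg.Agent.Cmp
open scoped commutatorElement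

universe u

variable {X : Type*} [Group X] [Finite X]

namespace KM12

/-- A subgroup meeting a Sylow 2-subgroup of order `2 ^ (n + 1)` in index at most 2 has order
divisible by `2 ^ n`. -/
theorem dvd_card {U : Sylow 2 X} {C : Subgroup X} {n : ℕ} (hn : 2 ^ (n + 1) ∣ Nat.card X)
    (h : C.relIndex U ≤ 2) : 2 ^ n ∣ Nat.card C := by
  have h1 : 2 ^ (n + 1) ∣ Nat.card U := U.pow_dvd_card_of_pow_dvd_card hn
  have h2 : Nat.card (C.subgroupOf U) * C.relIndex U = Nat.card U := (C.subgroupOf U).card_mul_index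
  have h3 : Nat.card (C.subgroupOf U) ∣ Nat.card C := by
    rw [← inf_subgroupOf_right, Nat.card_congr (subgroupOfEquivOfLe inf_le_right).toEquiv]
    exact card_dvd_of_le inf_le_left
  have h0 : C.relIndex U ≠ 0 := index_ne_zero_of_finite
  refine Dvd.dvd.trans ?_ h3
  rw [← h2, pow_succ] at h1
  have h4 : C.relIndex U = 1 ∨ C.relIndex U = 2 := by omega
  rcases h4 with e | e
  · rw [e, mul_one] at h1
    exact (dvd_mul_right _ 2).trans h1
  · rw [e] at h1
    exact Nat.dvd_of_mul_dvd_mul_right two_pos h1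

theorem card_cent (hG : Nat.card X = 95040) [IsSimpleGroup X] {b : X} (hb : orderOf b = 2) :
    Nat.card (C1 b) = 240 ∨ Nat.card (C1 b) = 192 := by
  obtain ⟨x, A, B, Γ, D, θ, θ', a, b', c, d, h⟩ := M12.exists_st1 hG
  obtain ⟨y, z, E, F, K, S, T, s, t, k⟩ := h.exists_st2 hG
  refine ((h.st3 hG k).invol b hb).imp (fun hz => ?_) id
  obtain ⟨g, rfl⟩ := isConj_iff.1 hz
  exact (Nat.card_congr (KFI.cenEquiv (MulAut.conj g) z).toEquiv).symm.trans k.hCz

theorem of_stH (s : Rec.J23.StH X) {t : X} (ht : orderOf t = 2) (h64 : 2 ^ 6 ∣ Nat.card (C1 t)) :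
    Loc.Am.IsCharP 2 (C1 t) := by
  by_cases h : IsConj t s.z
  · have h1 : (∀ q ∈ s.Q, q ∈ s.H) ∧ (∀ h ∈ s.H, ∀ q ∈ s.Q, h * q * h⁻¹ ∈ s.Q) ∧
        ∀ h ∈ s.H, (∀ q ∈ s.Q, q * h = h * q) → h * h = 1 := s.lists.decide s.rep (by decide +kernel)
    refine KFI.SpD.charP_conj ?_ h
    rw [s.cent_eq]
    exact KFI.charP_of_normal h1.1 (fun g hg => mem_normalizer_fintype (S := (s.Q : Set X))
      (h1.2.1 g hg)) (IsPGroup.of_card (n := 5) s.card_Q) fun g =>
        ⟨1, Subtype.ext ((pow_two (g : X)).trans (h1.2.2 g g.2.1 g.2.2))⟩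
  · obtain ⟨m, rfl⟩ := s.exists_stM
    obtain ⟨f⟩ := (m.cent_second (m.toStH.not_isConj ⟨_, _, ht, m.toStH.orderOf_zt.1, h⟩) t ht h).1
    rw [Nat.card_congr f.toEquiv, Nat.card_prod, nat_card_alternatingGroup, Nat.card_eq_fintype_card,
      Nat.card_eq_fintype_card] at h64
    exact absurd h64 (by decide)

end KM12

theorem kb_m12 (h : Spor.IsoM12 X) : KB X := fun U b hb hi => by
  obtain ⟨e⟩ := id h
  have := Spor.Dod.simple_SporM12
  have := e.isSimpleGroup
  have hG : Nat.card X = 95040 := (Nat.card_congr e.toEquiv).trans Spor.Dod.card_SporM12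
  have h32 := KM12.dvd_card (n := 5) (by rw [hG]; norm_num) hi
  have hc : Nat.card (C1 b) = 192 :=
    (KM12.card_cent hG hb).resolve_left fun e => by rw [e] at h32; norm_num at h32
  have := Ch.burnside_isSolvable_of_card_eq (G := C1 b) (a := 6) (b := 1) Nat.prime_two
    Nat.prime_three (by rw [hc]; norm_num)
  exact KFI.charP_iff.2 ⟨layer_eq_bot_of_isSolvable, (KFI.SpA.m12 h b hb).1⟩

theorem kb_j2 (h : Spor.IsoJ2 X) : KB X := fun U b hb hi => by
  obtain ⟨e⟩ := id h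
  have := Finite.of_equiv _ e.toEquiv
  obtain ⟨s⟩ := JS.exists_stH_J2
  have h64 := KM12.dvd_card (n := 6) (by rw [Rec.J23.card_of_isoJ2 h]; norm_num) hi
  refine KFI.SpD.charP_equiv e (KM12.of_stH s (by rwa [e.orderOf_eq]) ?_)
  rwa [← Nat.card_congr (KFI.cenEquiv e b).toEquiv]

end Cfsg.Agent.QE
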